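import Groth.Agent.Hensel.IntegralStrict
import Mathlib.RingTheory.DedekindDomain.IntegralClosure
import Mathlib.RingTheory.DiscreteValuationRing.TFAE
import Mathlib.FieldTheory.PurelyInseparable.Basic
import Mathlib.FieldTheory.Galois.Basic
import Mathlib.RingTheory.RootsOfUnity.PrimitiveRoots
import Mathlib.GroupTheory.Perm.Cycle.Type
import Mathlib.RingTheory.IntegralDomain
import Mathlib.RingTheory.Polynomial.Cyclotomic.Basic
import Mathlib.Algebra.CharP.Frobenius

/-!
Finite Galois extensions of a strictly henselian discrete valuation ring: the kernel of the `r`-th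
fundamental character consists of products of two `r`-th powers.
-/

universe u

namespace Groth.Agent.TameChar

open IsLocalRing Polynomial
open scoped nonZeroDivisors

theorem exists_eq_pow_mul_pow
    (R : Type u) [CommRing R] [IsDomain R] [IsDiscreteValuationRing R] [HenselianLocalRing R]
    [IsSepClosed (ResidueField R)]
    (K L : Type u) [Field K] [Algebra R K] [IsFractionRing R K]
    [Field L] [Algebra K L] [Algebra R L] [IsScalarTower R K L] [FiniteDimensional K L] [IsGalois K L]
    {r : ℕ} (hr0 : 0 < r) {ζ : R} (hζ : IsPrimitiveRoot ζ r) (hζk : IsPrimitiveRoot (residue R ζ) r)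
    {ρ : L} (hρ0 : ρ ≠ 0) (hρ : ρ ^ r ∈ (algebraMap R L).range)
    {σ₁ : L ≃ₐ[K] L} (hσ₁ : σ₁ ρ = algebraMap R L ζ * ρ)
    (e : L ≃ₐ[K] L) (he : e ρ = ρ) : ∃ d y : L ≃ₐ[K] L, d ^ r * y ^ r = e := by
  classical
  let S := integralClosure R L
  haveI : IsFractionRing S L :=
    IsIntegralClosure.isFractionRing_of_finite_extension R K L S
  haveI : IsLocalRing S := Hensel.isLocalRing_of_isIntegral_domain R S
  haveI : IsDedekindDomain S := integralClosure.isDedekindDomain R K L
  haveI hloc : IsLocalHom (algebraMap R S) := Hensel.isLocalHom_of_isIntegral_local R S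
  have hRL : Function.Injective (algebraMap R L) := by
    rw [IsScalarTower.algebraMap_eq R K L]
    exact (algebraMap K L).injective.comp (IsFractionRing.injective R K)
  have hnf : ¬ IsField S := by
    intro hS
    apply IsDiscreteValuationRing.not_isField R
    exact isField_of_isIntegral_of_isField (fun a b h => hRL (congrArg (fun x : S => (x : L)) h)) hS
  haveI : IsDiscreteValuationRing S :=
    ((IsDiscreteValuationRing.TFAE S hnf).out 2 0).mp ‹IsDedekindDomain S›
  obtain ⟨ϖS, hPi⟩ := IsDiscreteValuationRing.exists_irreducible S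
  -- the Galois action on `S`
  let act : (L ≃ₐ[K] L) → (S →+* S) := fun σ =>
    { toFun := fun x => ⟨σ (x : L), x.2.map (σ.restrictScalars R)⟩
      map_one' := Subtype.ext (map_one σ)
      map_mul' := fun x y => Subtype.ext (map_mul σ _ _)
      map_zero' := Subtype.ext (map_zero σ)
      map_add' := fun x y => Subtype.ext (map_add σ _ _) }
  have act_mul : ∀ σ τ x, act (σ * τ) x = act σ (act τ x) := fun σ τ x => rfl
  have act_one : ∀ x, act 1 x = x := fun x => rfl
  have act_alg : ∀ σ (a : R), act σ (algebraMap R S a) = algebraMap R S a := fun σ a =>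
    Subtype.ext ((σ.restrictScalars R).commutes a)
  obtain ⟨-, hpi⟩ := Hensel.residueField_of_isIntegral R S
  letI algk : Algebra (ResidueField R) (ResidueField S) := (ResidueField.map (algebraMap R S)).toAlgebra
  haveI : IsPurelyInseparable (ResidueField R) (ResidueField S) := hpi
  -- trivial action on the residue field
  have act_res : ∀ σ x, residue S (act σ x) = residue S x := by
    intro σ x
    let q := ringExpChar (ResidueField R)
    haveI : ExpChar (ResidueField S) q :=
      expChar_of_injective_algebraMap (algebraMap (ResidueField R) (ResidueField S)).injective q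
    obtain ⟨n, y, hy⟩ := IsPurelyInseparable.pow_mem (ResidueField R) q (residue S x)
    obtain ⟨a, rfl⟩ := residue_surjective y
    have hy' : residue S (algebraMap R S a) = residue S (x ^ q ^ n) := by rw [map_pow]; exact hy
    have hm : x ^ q ^ n - algebraMap R S a ∈ maximalIdeal S := by
      rw [← residue_eq_zero_iff, map_sub, hy', sub_self]
    have hm' : act σ (x ^ q ^ n - algebraMap R S a) ∈ maximalIdeal S := by
      by_contra hu
      apply hm
      have hu' : IsUnit (act σ (x ^ q ^ n - algebraMap R S a)) := not_not.mp hu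
      have := hu'.map (act σ⁻¹)
      rwa [← act_mul, inv_mul_cancel, act_one] at this
    rw [← residue_eq_zero_iff, map_sub, map_sub, act_alg, sub_eq_zero, map_pow, map_pow, hy', map_pow] at hm'
    exact iterateFrobenius_inj (ResidueField S) q n (by simpa [iterateFrobenius_def] using hm')
  -- the uniformiser cocycle
  have hassoc : ∀ σ, ∃ u : Sˣ, act σ ϖS = u * ϖS := by
    intro σ
    have hm : act σ ϖS ∈ maximalIdeal S := by
      by_contra hu
      apply hPi.not_isUnit
      have hu' : IsUnit (act σ ϖS) := not_not.mp hu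
      have := hu'.map (act σ⁻¹)
      rwa [← act_mul, inv_mul_cancel, act_one] at this
    have hne : act σ ϖS ≠ 0 := fun h0 => hPi.ne_zero (by
      have := congrArg (act σ⁻¹) h0
      rwa [← act_mul, inv_mul_cancel, act_one, map_zero] at this)
    obtain ⟨n, u, hn⟩ := IsDiscreteValuationRing.eq_unit_mul_pow_irreducible hne hPi
    obtain ⟨n', u', hn'⟩ := IsDiscreteValuationRing.eq_unit_mul_pow_irreducible
      (show act σ⁻¹ ϖS ≠ 0 from fun h0 => hPi.ne_zero (by
        have := congrArg (act σ) h0
        rwa [← act_mul, mul_inv_cancel, act_one, map_zero] at this)) hPi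
    have h1 : ϖS = act σ⁻¹ (act σ ϖS) := by rw [← act_mul, inv_mul_cancel, act_one]
    rw [hn, map_mul, map_pow, hn', mul_pow, ← pow_mul, ← mul_assoc] at h1
    have hu0 : IsUnit (act σ⁻¹ (u : S) * (u' : S) ^ n) := (u.isUnit.map _).mul (u'.isUnit.pow _)
    obtain ⟨w, hw⟩ := hu0
    rw [← hw] at h1
    have h2 : 1 = n' * n := by
      have := IsDiscreteValuationRing.unit_mul_pow_congr_pow hPi hPi 1 w 1 (n' * n)
        (by rw [Units.val_one, one_mul, pow_one]; exact h1)
      exact this
    obtain rfl : n = 1 := Nat.eq_one_of_mul_eq_one_left h2.symm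
    exact ⟨u, by rw [hn, pow_one]⟩
  choose uc huc using hassoc
  let θ : (L ≃ₐ[K] L) →* ResidueField S :=
    { toFun := fun σ => residue S (uc σ : S)
      map_one' := by
        have h : ((uc 1 : Sˣ) : S) = 1 := by
          have := (act_one ϖS).symm.trans (huc 1)
          exact mul_right_cancel₀ hPi.ne_zero (by rw [← this, one_mul])
        rw [h, map_one]
      map_mul' := fun σ τ => by
        have h : ((uc (σ * τ) : Sˣ) : S) = act σ (uc τ) * uc σ := by
          refine mul_right_cancel₀ hPi.ne_zero ?_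
          rw [← huc, act_mul, huc τ, map_mul, huc σ, mul_assoc]
        rw [h, map_mul, act_res, mul_comm] }
  -- eigenvectors
  have eig : ∀ (σ : L ≃ₐ[K] L) (x : L), x ≠ 0 → ∀ ξ : R, σ x = algebraMap R L ξ * x →
      ∃ i : ℕ, θ σ ^ i = algebraMap (ResidueField R) (ResidueField S) (residue R ξ) := by
    intro σ x hx ξ hξ
    obtain ⟨⟨m, hm⟩, hm2⟩ := IsIntegral.exists_multiple_integral_of_isLocalization R⁰
      (Rₘ := K) x (Algebra.IsIntegral.isIntegral x)
    have hm0 : algebraMap R L m ≠ 0 := fun h => nonZeroDivisors.ne_zero hm (hRL (h.trans (map_zero _).symm))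
    rw [Submonoid.smul_def, Algebra.smul_def] at hm2
    let z : S := ⟨algebraMap R L m * x, hm2⟩
    have hz : z ≠ 0 := fun h => mul_ne_zero hm0 hx (congrArg Subtype.val h)
    obtain ⟨i, v, hv⟩ := IsDiscreteValuationRing.eq_unit_mul_pow_irreducible hz hPi
    refine ⟨i, ?_⟩
    have h1 : act σ z = algebraMap R S ξ * z := by
      apply Subtype.ext
      show σ (algebraMap R L m * x) = algebraMap R L ξ * (algebraMap R L m * x)
      rw [map_mul, hξ, show σ (algebraMap R L m) = algebraMap R L m from (σ.restrictScalars R).commutes m]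
      ring
    rw [hv, map_mul, map_pow, huc, mul_pow, ← mul_assoc, ← mul_assoc] at h1
    have h2 := mul_right_cancel₀ (pow_ne_zero i hPi.ne_zero) h1
    have h3 := congrArg (residue S) h2
    rw [map_mul, map_mul, map_pow, act_res, mul_comm (residue S (v : S)), mul_eq_mul_right_iff] at h3
    rcases h3 with h3 | h3
    · rw [RingHom.algebraMap_toAlgebra, ResidueField.map_residue]
      exact h3
    · exact absurd h3 ((residue_ne_zero_iff_isUnit _).mpr v.isUnit)
  -- the kernel of θ has order prime to r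
  let P := θ.toHomUnits.ker
  have hcop : Nat.Coprime (Nat.card P) r := by
    rw [Nat.coprime_iff_gcd_eq_one]
    by_contra hg
    obtain ⟨l, hl, hdvd⟩ := Nat.exists_prime_and_dvd hg
    have hlP : l ∣ Nat.card P := hdvd.trans (Nat.gcd_dvd_left _ _)
    have hlr : l ∣ r := hdvd.trans (Nat.gcd_dvd_right _ _)
    haveI : Fact l.Prime := ⟨hl⟩
    obtain ⟨⟨σ, hσP⟩, hord⟩ := exists_prime_orderOf_dvd_card' l hlP
    have hσθ : θ σ = 1 := congrArg Units.val (MonoidHom.mem_ker.mp hσP)
    rw [← Subgroup.orderOf_coe] at hord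
    obtain ⟨j, hj⟩ := hlr
    have hη : IsPrimitiveRoot (ζ ^ j) l := hζ.pow hr0 (by rw [hj, mul_comm])
    have hηK : IsPrimitiveRoot (algebraMap R K (ζ ^ j)) l := hη.map_of_injective (IsFractionRing.injective R K)
    let f : L →ₗ[K] L := σ.toLinearMap
    have hfpow : ∀ n : ℕ, f ^ n = (σ ^ n).toLinearMap := by
      intro n
      induction n with
      | zero => rfl
      | succ n ih => rw [pow_succ, ih, pow_succ]; rfl
    obtain ⟨ξ, hξ1, hξ2, x, hx, hσx⟩ : ∃ ξ : K, ξ ^ l = 1 ∧ ξ ≠ 1 ∧ ∃ x : L, x ≠ 0 ∧ σ x = ξ • x := by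
      by_contra! hno
      have hinj : Function.Injective (aeval f (∏ ξ ∈ (nthRootsFinset l (1 : K)).erase 1, (X - C ξ))) := by
        refine Finset.prod_induction _ (fun q : K[X] => Function.Injective (aeval f q)) (fun a b ha hb => ?_)
          (fun a b h => by simpa using h) ?_
        · rw [map_mul]; exact ha.comp hb
        · intro ξ hξ
          rw [Finset.mem_erase, mem_nthRootsFinset hl.pos] at hξ
          refine (injective_iff_map_eq_zero _).mpr fun x hx => ?_
          by_contra hx0
          refine hno ξ hξ.2 hξ.1 x hx0 ?_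
          simpa [f, sub_eq_zero] using hx
      have hprod : (∏ ξ ∈ (nthRootsFinset l (1 : K)).erase 1, (X - C ξ)) * (X - C 1) = X ^ l - 1 := by
        rw [Finset.prod_erase_mul _ _ ((mem_nthRootsFinset hl.pos 1).mpr (one_pow l))]
        exact (X_pow_sub_one_eq_prod hl.pos hηK).symm
      have hσ1 : σ = 1 := by
        ext x
        have h : aeval f ((∏ ξ ∈ (nthRootsFinset l (1 : K)).erase 1, (X - C ξ)) * (X - C 1)) x =
            aeval f (X ^ l - 1 : K[X]) x := by rw [hprod]
        have h0 : aeval f (X ^ l - 1 : K[X]) x = 0 := by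
          rw [map_sub, map_pow, aeval_X, map_one, hfpow, ← hord, pow_orderOf_eq_one]; simp
        rw [map_mul, Module.End.mul_apply, h0] at h
        have h' := (injective_iff_map_eq_zero _).mp hinj _ h
        simpa [f, sub_eq_zero] using h'
      exact hl.one_lt.ne' (by rw [← hord]; simpa using orderOf_eq_one_iff.mpr hσ1)
    haveI : NeZero l := ⟨hl.ne_zero⟩
    obtain ⟨a, -, rfl⟩ := hηK.eq_pow_of_pow_eq_one hξ1
    obtain ⟨i, hi⟩ := eig σ x hx ((ζ ^ j) ^ a) (by
      rw [hσx, Algebra.smul_def, ← map_pow, ← IsScalarTower.algebraMap_apply])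
    rw [hσθ, one_pow, map_pow, map_pow] at hi
    refine hξ2 ?_
    have h1 : residue R ζ ^ (j * a) = 1 := by
      apply (algebraMap (ResidueField R) (ResidueField S)).injective
      rw [map_one, pow_mul, hi]; simp only [map_pow]
    obtain ⟨t, ht⟩ := hζk.dvd_of_pow_eq_one _ h1
    rw [← map_pow, ← pow_mul, ht, pow_mul, hζ.pow_eq_one, one_pow, map_one]
  -- the image of θ is cyclic
  obtain ⟨⟨g, g₀, rfl⟩, hg⟩ := IsCyclic.exists_generator (α := θ.toHomUnits.range)
  have hgen : ∀ σ, ∃ a : ℤ, θ.toHomUnits σ = θ.toHomUnits g₀ ^ a := by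
    intro σ
    obtain ⟨a, ha⟩ := hg ⟨_, σ, rfl⟩
    exact ⟨a, (congrArg Subtype.val ha).symm⟩
  obtain ⟨i, hv⟩ : ∃ i : ℕ, ∀ σ ξ, σ ρ = algebraMap R L ξ * ρ →
      θ σ ^ i = algebraMap (ResidueField R) (ResidueField S) (residue R ξ) := by
    obtain ⟨c, hc⟩ := hρ
    have hρint : IsIntegral R ρ := IsIntegral.of_pow hr0 (hc ▸ isIntegral_algebraMap)
    obtain ⟨i, v, hv⟩ := IsDiscreteValuationRing.eq_unit_mul_pow_irreducible
      (show (⟨ρ, hρint⟩ : S) ≠ 0 from fun h => hρ0 (congrArg Subtype.val h)) hPi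
    refine ⟨i, fun σ ξ hσ => ?_⟩
    have h1 : act σ ⟨ρ, hρint⟩ = algebraMap R S ξ * ⟨ρ, hρint⟩ := Subtype.ext hσ
    rw [hv, map_mul, map_pow, huc, mul_pow, ← mul_assoc, ← mul_assoc] at h1
    have h2 := mul_right_cancel₀ (pow_ne_zero i hPi.ne_zero) h1
    have h3 := congrArg (residue S) h2
    rw [map_mul, map_mul, map_pow, act_res, mul_comm (residue S (v : S)), mul_eq_mul_right_iff] at h3
    rcases h3 with h3 | h3
    · rw [RingHom.algebraMap_toAlgebra, ResidueField.map_residue]
      exact h3
    · exact absurd h3 ((residue_ne_zero_iff_isUnit _).mpr v.isUnit)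
  let κ : (ResidueField S)ˣ := θ.toHomUnits g₀ ^ i
  have hval : ∀ σ ξ, σ ρ = algebraMap R L ξ * ρ → ∀ a : ℤ, θ.toHomUnits σ = θ.toHomUnits g₀ ^ a →
      ((κ ^ a : (ResidueField S)ˣ) : ResidueField S) = algebraMap (ResidueField R) (ResidueField S) (residue R ξ) := by
    intro σ ξ hσ a ha
    have h : κ ^ a = θ.toHomUnits σ ^ i := by
      rw [ha]; simp only [κ, ← zpow_natCast, ← zpow_mul, mul_comm]
    rw [← hv σ ξ hσ, h]
    simp [MonoidHom.coe_toHomUnits]
  obtain ⟨b, hb⟩ := hgen σ₁
  have hκb : IsPrimitiveRoot (κ ^ b) r := by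
    rw [← IsPrimitiveRoot.coe_units_iff, hval σ₁ ζ hσ₁ b hb]
    exact hζk.map_of_injective (algebraMap (ResidueField R) (ResidueField S)).injective
  obtain ⟨a, ha⟩ := hgen e
  have hκa : κ ^ a = 1 := by
    refine Units.ext ?_
    rw [hval e 1 (by rw [map_one, one_mul, he]) a ha, map_one, map_one, Units.val_one]
  have hra : (r : ℤ) ∣ a := by
    rw [← hκb.zpow_eq_one_iff_dvd, ← zpow_mul, mul_comm, zpow_mul, hκa, one_zpow]
  obtain ⟨t, rfl⟩ := hra
  have hmem : ((g₀ ^ t) ^ r)⁻¹ * e ∈ P := by
    rw [MonoidHom.mem_ker, map_mul, map_inv, map_pow, map_zpow, ha, ← zpow_natCast, ← zpow_mul, mul_comm t,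
      inv_mul_cancel]
  obtain ⟨y, hy⟩ := (powCoprime (G := P) (n := r) hcop).surjective ⟨_, hmem⟩
  refine ⟨g₀ ^ t, y, ?_⟩
  have hy' : (y : L ≃ₐ[K] L) ^ r = ((g₀ ^ t) ^ r)⁻¹ * e := congrArg Subtype.val hy
  rw [hy', mul_inv_cancel_left]

end Groth.Agent.TameChar
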